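import Mathlib

/-! # Coinduced modules `Hom_A(S, N)` and their injectivity -/

set_option autoImplicit false
universe u

namespace Groth.Agent.Lib.Helper2.Coind

section Coind
variable (A : Type u) [CommRing A] (S : Type u) [CommRing S] [Algebra A S]
  (N : Type u) [AddCommGroup N] [Module A N]

/-- The coinduced module `Hom_A(S, N)`, with `S` acting on the source. -/
def Coind : Type u := S →ₗ[A] N

instance : AddCommGroup (Coind A S N) := inferInstanceAs (AddCommGroup (S →ₗ[A] N))

variable {A S N}

/-- Underlying linear map. -/
def Coind.toLin (φ : Coind A S N) : S →ₗ[A] N := φ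

/-- Constructor. -/
def Coind.ofLin (φ : S →ₗ[A] N) : Coind A S N := φ

@[simp] theorem Coind.toLin_ofLin (φ : S →ₗ[A] N) : (Coind.ofLin φ).toLin = φ := rfl
@[simp] theorem Coind.ofLin_toLin (φ : Coind A S N) : Coind.ofLin φ.toLin = φ := rfl
@[simp] theorem Coind.toLin_add (φ ψ : Coind A S N) : (φ + ψ).toLin = φ.toLin + ψ.toLin := rfl
@[simp] theorem Coind.toLin_zero : (0 : Coind A S N).toLin = 0 := rfl
@[simp] theorem Coind.toLin_neg (φ : Coind A S N) : (-φ).toLin = -φ.toLin := rfl
@[simp] theorem Coind.toLin_sub (φ ψ : Coind A S N) : (φ - ψ).toLin = φ.toLin - ψ.toLin := rfl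

theorem Coind.ext {φ ψ : Coind A S N} (h : ∀ x, φ.toLin x = ψ.toLin x) : φ = ψ :=
  LinearMap.ext h

instance : SMul S (Coind A S N) where
  smul s φ := Coind.ofLin (φ.toLin ∘ₗ LinearMap.mulRight A s)

@[simp] theorem Coind.smul_apply (s : S) (φ : Coind A S N) (x : S) :
    (s • φ).toLin x = φ.toLin (x * s) := rfl

instance : Module S (Coind A S N) where
  one_smul φ := Coind.ext fun x => by simp
  mul_smul s t φ := Coind.ext fun x => by simp [mul_assoc]
  smul_zero s := Coind.ext fun x => by simp
  smul_add s φ ψ := Coind.ext fun x => by simp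
  add_smul s t φ := Coind.ext fun x => by simp [mul_add]
  zero_smul φ := Coind.ext fun x => by simp

variable (A S N) in
/-- Coinduction preserves injectivity. -/
theorem coind_injective [Module.Injective A N] : Module.Injective S (Coind A S N) := by
  constructor
  intro X Y _ _ _ _ f hf g
  letI : Module A X := Module.compHom X (algebraMap A S)
  letI : Module A Y := Module.compHom Y (algebraMap A S)
  haveI : IsScalarTower A S X := IsScalarTower.of_algebraMap_smul fun _ _ => rfl
  haveI : IsScalarTower A S Y := IsScalarTower.of_algebraMap_smul fun _ _ => rfl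
  let fA : X →ₗ[A] Y := f.restrictScalars A
  let h₀ : X →ₗ[A] N :=
    { toFun := fun p => (g p).toLin 1
      map_add' := fun p q => by simp
      map_smul' := fun a p => by
        have : a • p = (algebraMap A S a) • p := rfl
        rw [this, map_smul, Coind.smul_apply, one_mul, RingHom.id_apply,
          Algebra.algebraMap_eq_smul_one, map_smul] }
  obtain ⟨h₁, hh₁⟩ := Module.Injective.out (R := A) (Q := N) fA hf h₀
  let h : Y →ₗ[S] Coind A S N :=
    { toFun := fun y => Coind.ofLin
        { toFun := fun a => h₁ (a • y)
          map_add' := fun a b => by rw [add_smul, map_add]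
          map_smul' := fun c a => by rw [smul_assoc, map_smul, RingHom.id_apply] }
      map_add' := fun y z => Coind.ext fun a => by
        change h₁ (a • (y + z)) = h₁ (a • y) + h₁ (a • z)
        rw [smul_add, map_add]
      map_smul' := fun b y => Coind.ext fun a => by
        change h₁ (a • b • y) = h₁ ((a * b) • y)
        rw [mul_smul] }
  refine ⟨h, fun x => Coind.ext fun a => ?_⟩
  change h₁ (a • f x) = (g x).toLin a
  rw [← map_smul]
  have := hh₁ (a • x)
  change h₁ (f (a • x)) = (g (a • x)).toLin 1 at this
  rw [this, map_smul, Coind.smul_apply, one_mul]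

end Coind

end Groth.Agent.Lib.Helper2.Coind
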