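import Groth.Agent.Lib.Helper2.Coind.Basic

/-! # The two-term coinduced resolution `0 → N → Hom_A(A[X], N) → Hom_A(A[X], N) → 0` -/

set_option autoImplicit false
universe u

namespace Groth.Agent.Lib.Helper2.Coind

open Polynomial

variable {A : Type u} [CommRing A] {N : Type u} [AddCommGroup N] [Module A N] [Module A[X] N]
  [IsScalarTower A A[X] N]

variable (A N) in
/-- `m ↦ (f ↦ f • m)`. -/
noncomputable def ιC : N →ₗ[A[X]] Coind A A[X] N where
  toFun m := Coind.ofLin ((LinearMap.toSpanSingleton A[X] N m).restrictScalars A)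
  map_add' m m' := Coind.ext fun f => by
    change f • (m + m') = f • m + f • m'
    rw [smul_add]
  map_smul' g m := Coind.ext fun f => by
    change f • g • m = (f * g) • m
    rw [mul_smul]

@[simp] theorem ιC_apply (m : N) (f : A[X]) : (ιC A N m).toLin f = f • m := rfl

variable (A N) in
/-- `φ ↦ (f ↦ φ(X f) − X φ(f))`. -/
noncomputable def dC : Coind A A[X] N →ₗ[A[X]] Coind A A[X] N where
  toFun φ := Coind.ofLin
    { toFun := fun f => φ.toLin (X * f) - (X : A[X]) • φ.toLin f
      map_add' := fun f g => by rw [mul_add, map_add, map_add, smul_add]; abel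
      map_smul' := fun c f => by
        rw [mul_smul_comm, map_smul, map_smul, RingHom.id_apply, smul_sub, smul_comm] }
  map_add' φ ψ := Coind.ext fun f => by
    change (φ + ψ).toLin (X * f) - (X : A[X]) • (φ + ψ).toLin f =
      (φ.toLin (X * f) - (X : A[X]) • φ.toLin f) + (ψ.toLin (X * f) - (X : A[X]) • ψ.toLin f)
    simp only [Coind.toLin_add, LinearMap.add_apply, smul_add]; abel
  map_smul' g φ := Coind.ext fun f => by
    change (g • φ).toLin (X * f) - (X : A[X]) • (g • φ).toLin f =
      φ.toLin (X * (f * g)) - (X : A[X]) • φ.toLin (f * g)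
    simp only [Coind.smul_apply, mul_assoc]

@[simp] theorem dC_apply (φ : Coind A A[X] N) (f : A[X]) :
    (dC A N φ).toLin f = φ.toLin (X * f) - (X : A[X]) • φ.toLin f := rfl

theorem ιC_injective : Function.Injective (ιC A N) := fun m m' h => by
  have := congrArg (fun φ => Coind.toLin φ 1) h
  simpa using this

theorem dC_comp_ιC (m : N) : dC A N (ιC A N m) = 0 := Coind.ext fun f => by
  simp [mul_smul]

theorem exact_ιC_dC : Function.Exact (ιC A N) (dC A N) := by
  intro φ
  constructor
  · intro h
    refine ⟨φ.toLin 1, Coind.ext fun f => ?_⟩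
    have hX : ∀ f, φ.toLin (X * f) = (X : A[X]) • φ.toLin f := fun f => by
      have := congrArg (fun ψ => Coind.toLin ψ f) h
      simpa [sub_eq_zero] using this
    have hmon : ∀ n : ℕ, φ.toLin (X ^ n) = (X ^ n : A[X]) • φ.toLin 1 := by
      intro n
      induction n with
      | zero => simp
      | succ n ih => rw [pow_succ', hX, ih, mul_smul]
    rw [ιC_apply]
    induction f using Polynomial.induction_on' with
    | add p q hp hq => rw [add_smul, map_add, hp, hq]
    | monomial n a =>
      rw [← Polynomial.C_mul_X_pow_eq_monomial, ← Polynomial.smul_eq_C_mul, map_smul, hmon,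
        smul_assoc]
  · rintro ⟨m, rfl⟩
    exact dC_comp_ιC m

theorem dC_surjective : Function.Surjective (dC A N) := by
  intro ψ
  -- values of the preimage on the monomial basis
  let c : ℕ → N := fun n => Nat.rec 0 (fun n cn => (X : A[X]) • cn + ψ.toLin (X ^ n)) n
  have c0 : c 0 = 0 := rfl
  have cs : ∀ n, c (n + 1) = (X : A[X]) • c n + ψ.toLin (X ^ n) := fun n => rfl
  let φ : A[X] →ₗ[A] N := Polynomial.lsum fun n => LinearMap.toSpanSingleton A N (c n)
  have hφ : ∀ (n : ℕ) (a : A), φ (monomial n a) = a • c n := by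
    intro n a
    simp [φ, Polynomial.lsum_apply, Polynomial.sum_monomial_index]
  refine ⟨Coind.ofLin φ, Coind.ext fun f => ?_⟩
  rw [dC_apply, Coind.toLin_ofLin]
  induction f using Polynomial.induction_on' with
  | add p q hp hq => rw [mul_add, map_add, map_add, smul_add, map_add, ← hp, ← hq]; abel
  | monomial n a =>
    rw [Polynomial.X_mul_monomial, hφ, hφ, cs, smul_add, smul_comm a (X : A[X]) (c n),
      add_sub_cancel_left, ← Polynomial.C_mul_X_pow_eq_monomial, ← Polynomial.smul_eq_C_mul,
      map_smul]

end Groth.Agent.Lib.Helper2.Coind
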